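import Mathlib
import Groth.Prelude
import Groth.Agent.H29.FiberStalkAt
import Groth.Agent.H29.FlatCM
import Groth.Agent.H60.GorTransfer
import Groth.Agent.H73.CL_VF
import Groth.Agent.H20.CL_CET
import Groth.Agent.H20.CL_GET

set_option autoImplicit false
universe u
open CategoryTheory CategoryTheory.Limits AlgebraicGeometry

namespace Groth.Agent.H14.CL

/-- (FIB) -/
theorem nonempty_fiberStalk_equiv_of_isField {U V : Scheme.{u}} (g : U ⟶ V) (x : U)
    (hf : IsField (V.presheaf.stalk (g x))) :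
    Nonempty ((g.fiber (g x)).presheaf.stalk (g.asFiber x) ≃+* U.presheaf.stalk x) := by
  obtain ⟨e⟩ := Groth.Agent.H29.FiberStalkAt.nonempty_fiberStalkEquiv g x
  have hbot : IsLocalRing.maximalIdeal (V.presheaf.stalk (g x)) = ⊥ := by
    letI := hf.toField
    exact IsLocalRing.maximalIdeal_eq_bot
  have h0 : Ideal.map (g.stalkMap x).hom (IsLocalRing.maximalIdeal (V.presheaf.stalk (g x))) = ⊥ := by
    rw [hbot, Ideal.map_bot]
  exact ⟨e.symm.trans ((Ideal.quotEquivOfEq h0).trans (RingEquiv.quotientBot _))⟩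

/-- (FLAT) -/
theorem flat_stalkMap_of_isField {U V : Scheme.{u}} (g : U ⟶ V) (x : U)
    (hf : IsField (V.presheaf.stalk (g x))) : (g.stalkMap x).hom.Flat := by
  letI := hf.toField
  letI := (g.stalkMap x).hom.toAlgebra
  show Module.Flat (V.presheaf.stalk (g x)) (U.presheaf.stalk x)
  infer_instance

theorem main_generic (Q : ∀ (R : Type u) [CommRing R], Prop)
    (hQe : ∀ {R R' : Type u} [CommRing R] [CommRing R'] (_ : R ≃+* R'), Q R → Q R')
    (hQet : ∀ {U X : Scheme.{u}} (α : U ⟶ X) [Etale α] (u : U),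
      Q (X.presheaf.stalk (α u)) → Q (U.presheaf.stalk u))
    (S : Scheme.{u}) (k : Type u) [Field k] (t : Spec (CommRingCat.of k) ⟶ S)
    (X : Scheme.{u}) (p : X ⟶ Spec (CommRingCat.of k)) :
    AlgSp.LocP (fun _ _ g => ∀ x, (g.stalkMap x).hom.Flat ∧
        Q ((g.fiber (g x)).presheaf.stalk (g.asFiber x)))
      ((AlgSp.yon S).map (Over.homMk p rfl : Over.mk (p ≫ t) ⟶ Over.mk t)) ↔
      ∀ x : ↥X, Q (X.presheaf.stalk x) := by
  constructor
  · intro h x
    have h1 := AlgSp.locP_yon_map h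
    obtain ⟨-, hq⟩ := h1 x
    have hf : IsField ((Spec (CommRingCat.of k)).presheaf.stalk (p x)) :=
      Groth.Agent.H73.CL_VF.isField_stalk_of_etale (𝟙 (Spec (CommRingCat.of k))) (p x)
    obtain ⟨e⟩ := nonempty_fiberStalk_equiv_of_isField p x hf
    exact hQe e hq
  · intro hX U V a b h ha hb hcomm
    obtain ⟨α, rfl⟩ := (AlgSp.yon S).map_surjective a
    obtain ⟨β, rfl⟩ := (AlgSp.yon S).map_surjective b
    have ha' : Etale α.left := (AlgSp.repWith_yon_map_iff @Etale α).mp ha
    have hb' : Etale β.left := (AlgSp.repWith_yon_map_iff @Etale β).mp hb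
    rw [← Functor.map_comp, ← Functor.map_comp] at hcomm
    have hcomm' := (AlgSp.yon S).map_injective hcomm
    have hleft : α.left ≫ p = h.left ≫ β.left := by
      have := congrArg CommaMorphism.left hcomm'
      simpa using this
    intro x
    haveI : Etale β.left := hb'
    haveI : Etale α.left := ha'
    have hf : IsField (V.left.presheaf.stalk (h.left x)) :=
      Groth.Agent.H73.CL_VF.isField_stalk_of_etale β.left (h.left x)
    refine ⟨flat_stalkMap_of_isField h.left x hf, ?_⟩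
    obtain ⟨e⟩ := nonempty_fiberStalk_equiv_of_isField h.left x hf
    exact hQe e.symm (hQet α.left x (hX _))

theorem main_gor (S : Scheme.{u}) (k : Type u) [Field k] (t : Spec (CommRingCat.of k) ⟶ S)
    (X : Scheme.{u}) (p : X ⟶ Spec (CommRingCat.of k)) :
    AlgSp.LocP (fun _ _ g => ∀ x, (g.stalkMap x).hom.Flat ∧
        LocCoh.IsGorensteinLocalRing ((g.fiber (g x)).presheaf.stalk (g.asFiber x)))
      ((AlgSp.yon S).map (Over.homMk p rfl : Over.mk (p ≫ t) ⟶ Over.mk t)) ↔
      ∀ x : ↥X, LocCoh.IsGorensteinLocalRing (X.presheaf.stalk x) :=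
  main_generic (fun R _ => LocCoh.IsGorensteinLocalRing R)
    (fun e h => Groth.Agent.H60.GorTransfer.gor_of_ringEquiv e h)
    (fun α _ u h => Groth.Agent.H20.CL_GET.gor_stalk_of_etale α u h) S k t X p

theorem main_cm (S : Scheme.{u}) (k : Type u) [Field k] (t : Spec (CommRingCat.of k) ⟶ S)
    (X : Scheme.{u}) (p : X ⟶ Spec (CommRingCat.of k)) :
    AlgSp.LocP (fun _ _ g => ∀ x, MoreMor.IsCMAt g x)
      ((AlgSp.yon S).map (Over.homMk p rfl : Over.mk (p ≫ t) ⟶ Over.mk t)) ↔
      ∀ x : ↥X, LocCoh.IsCohenMacaulayLocalRing (X.presheaf.stalk x) :=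
  main_generic (fun R _ => LocCoh.IsCohenMacaulayLocalRing R)
    (fun {R R'} _ _ e h => by
      haveI := h
      haveI : IsLocalRing R' := e.isLocalRing
      exact Groth.Agent.H29.FlatCM.isCM_ringEquiv e h)
    (fun α _ u h => Groth.Agent.H20.CL_CET.cm_stalk_of_etale α u h) S k t X p

end Groth.Agent.H14.CL
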